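import Cfsg.Agent.J4Classes.B.Setting

/-!
# The elements whose order is divisible by eleven
-/

set_option autoImplicit false
set_option maxRecDepth 100000

open Subgroup

namespace Cfsg.Agent.J4Classes.B

open J4Type
open J4Type.Eleven (Local11)
open LargeExtra (oc oc_le oc_conj_mem)

variable {G : Type*} [Group G] [Finite G] {z r p : G} {P : Subgroup G} (S : Setting G z r p P)
include S

/-- An element of order eleven commuting with a conjugate of `z` is conjugate to `r`. -/
theorem isConj_r_of_comm {y w : G} (hy : IsConj z y) (hw : orderOf w = 11) (hc : Commute w y) :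
    IsConj r w := by
  have L := S.loc
  have : Fact (Nat.Prime 11) := ⟨by norm_num⟩
  obtain ⟨g, rfl⟩ := isConj_iff.1 hy
  set w' := g⁻¹ * w * g with hw'
  have hw'o : orderOf w' = 11 := by
    rw [hw', show g⁻¹ * w * g = MulAut.conj g⁻¹ w by simp, MulEquiv.orderOf_eq, hw]
  set C := centralizer ({z} : Set G)
  have hw'C : w' ∈ C := mem_cent.2 (by
    show w' * z = z * w'
    calc w' * z = g⁻¹ * (w * (g * z * g⁻¹)) * g := by rw [hw']; group
      _ = z * w' := by rw [hc.eq, hw']; group)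
  have hrC : r ∈ C := mem_cent.2 L.comm.symm
  have hsyl : ∀ a : C, orderOf (a : G) = 11 → ∃ T : Sylow 11 C, (T : Subgroup C) = zpowers a := by
    intro a ha
    refine ⟨Sylow.ofCard (zpowers a) ?_, rfl⟩
    rw [Nat.card_zpowers, ← orderOf_coe, ha, L.card_z, show (21799895040 : ℕ) = 11 * 1981808640 by norm_num,
      Nat.factorization_mul (by norm_num) (by norm_num), Finsupp.add_apply,
      Nat.Prime.factorization_self (by norm_num), Nat.factorization_eq_zero_of_not_dvd (by norm_num)]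
    norm_num
  obtain ⟨A, hA⟩ := hsyl ⟨w', hw'C⟩ hw'o
  obtain ⟨B, hB⟩ := hsyl ⟨r, hrC⟩ L.r_order
  obtain ⟨c, hcB⟩ := MulAction.exists_smul_eq C A B
  have hmem : c * (⟨w', hw'C⟩ : C) * c⁻¹ ∈ (B : Subgroup C) :=
    hcB ▸ ⟨_, hA.ge (mem_zpowers _), rfl⟩
  rw [hB] at hmem
  obtain ⟨k, hk⟩ := (mem_powers_iff_mem_zpowers).2 hmem
  have hk' : r ^ k = (c : G) * w' * (c : G)⁻¹ := congrArg Subtype.val hk
  obtain ⟨U, hU⟩ := L.exists_syl
  have hk0 : (k : ZMod 11) ≠ 0 := fun h0 => by
    have h1 : r ^ k = 1 := orderOf_dvd_iff_pow_eq_one.1 (by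
      rw [L.r_order]; exact (ZMod.natCast_eq_zero_iff k 11).1 h0)
    rw [h1] at hk'
    rw [conj_eq_one_iff.1 hk'.symm, orderOf_one] at hw'o
    norm_num at hw'o
  obtain ⟨n, hn⟩ := L.chi_surjective hU (Units.mk0 _ hk0)
  have h2 : IsConj r (r ^ k) :=
    isConj_iff.2 ⟨n, (Eleven.chiHom_spec L.r_order n k).2 (by rw [hn]; rfl)⟩
  refine h2.trans (isConj_iff.2 ⟨g * (c : G)⁻¹, ?_⟩)
  rw [hk', hw']; group

/-- The second class: an element commuting with an involution of the second class. -/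
theorem exists_second : ∃ t w : G, orderOf t = 2 ∧ ¬ IsConj z t ∧ orderOf w = 11 ∧ Commute t w ∧
    ¬ IsConj r w ∧ Nat.card (centralizer ({w} : Set G)) ≤ 242 := by
  have L := S.loc
  have : Fact (Nat.Prime 11) := ⟨by norm_num⟩
  obtain ⟨t, ht, htz⟩ := S.exists_t
  obtain ⟨⟨w, hw⟩, hwo⟩ := exists_prime_orderOf_dvd_card' (G := centralizer ({t} : Set G)) 11
    (by rw [S.cent_t t ht htz]; norm_num)
  rw [orderOf_mk] at hwo
  obtain ⟨U, hU⟩ := L.exists_syl
  have hna := hU.not_comm L S.cent_t S.big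
  have hwr : ¬ IsConj r w := fun h => by
    obtain ⟨g, hg⟩ := isConj_iff.1 h
    have hy : orderOf (g⁻¹ * t * g) = 2 := by
      rw [show g⁻¹ * t * g = MulAut.conj g⁻¹ t by simp, MulEquiv.orderOf_eq, ht]
    have hyC : g⁻¹ * t * g ∈ centralizer ({r} : Set G) := mem_cent.2 (by
      show g⁻¹ * t * g * r = r * (g⁻¹ * t * g)
      calc g⁻¹ * t * g * r = g⁻¹ * (t * (g * r * g⁻¹)) * g := by group
        _ = r * (g⁻¹ * t * g) := by rw [hg, ← (mem_cent.1 hw).eq, ← hg]; group)
    obtain ⟨c, -, hc⟩ := hU.involution_conj L hyC hy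
    exact htz (isConj_iff.2 ⟨g * c, by
      calc g * c * z * (g * c)⁻¹ = g * (c * z * c⁻¹) * g⁻¹ := by group
        _ = t := by rw [hc]; group⟩)
  refine ⟨t, w, ht, htz, hwo, (mem_cent.1 hw).symm, hwr, ?_⟩
  obtain ⟨a, b, c, hcard, hb, hc2, hc3⟩ := L.card_cent hwo
  -- no element of order three
  have hb0 : b = 0 := by
    by_contra hb0
    have h3 : 3 ∣ Nat.card (centralizer ({w} : Set G)) := by
      rw [hcard, show b = 1 by omega]; exact ⟨2 ^ a * 11 ^ c, by ring⟩
    have : Fact (Nat.Prime 3) := ⟨Nat.prime_three⟩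
    obtain ⟨⟨x, hx⟩, hxo⟩ := exists_prime_orderOf_dvd_card' 3 h3
    rw [orderOf_mk] at hxo
    -- every element of order three has a conjugate of `z` as the only involution of its centre
    have hcx : IsConj p x → False := fun h => by
      obtain ⟨g, rfl⟩ := isConj_iff.1 h
      have hwp : g⁻¹ * w * g ∈ centralizer ({p} : Set G) := mem_cent.2 (by
        show g⁻¹ * w * g * p = p * (g⁻¹ * w * g)
        calc g⁻¹ * w * g * p = g⁻¹ * (w * (g * p * g⁻¹)) * g := by group
          _ = p * (g⁻¹ * w * g) := by rw [← (mem_cent.1 hx).eq]; group)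
      rw [S.cent_p] at hwp
      refine hwr (isConj_r_of_comm S (isConj_iff.2 ⟨g, rfl⟩) hwo ?_)
      have h1 := (mem_cent.1 hwp.1 : Commute (g⁻¹ * w * g) z)
      show w * (g * z * g⁻¹) = g * z * g⁻¹ * w
      calc w * (g * z * g⁻¹) = g * ((g⁻¹ * w * g) * z) * g⁻¹ := by group
        _ = g * z * g⁻¹ * w := by rw [h1.eq]; group
    exact hcx (S.three x hxo)
  -- the Sylow subgroups have their centre in the other class
  have hc' : c = 2 := by
    by_contra hne
    have hc : c = 3 := by omega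
    have h1331 : 11 ^ 3 ∣ Nat.card (centralizer ({w} : Set G)) := by
      rw [hcard, hc]; exact dvd_mul_left _ _
    obtain ⟨R, hR⟩ := Sylow.exists_subgroup_card_pow_prime 11 h1331
    obtain ⟨Sy, hSy⟩ := hU.exists_sylow L
    set R' := R.map (centralizer ({w} : Set G)).subtype with hR'
    have hR'c : Nat.card R' = 11 ^ 3 := by
      rw [hR', card_map_of_injective (Subgroup.subtype_injective _), hR]
    obtain ⟨T, hT⟩ := (IsPGroup.of_card hR'c).exists_le_sylow
    obtain ⟨g, hg⟩ := MulAction.exists_smul_eq G T Sy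
    have hmap : R'.map (MulAut.conj g).toMonoidHom = U := by
      refine eq_of_le_of_card_ge ?_ ?_
      · rintro _ ⟨y, hy, rfl⟩
        exact hSy ▸ hg ▸ ⟨y, hT hy, rfl⟩
      · rw [card_map_of_injective (MulAut.conj g).injective, hR'c, hU.card]
        norm_num
    have hcomm : ∀ u ∈ U, Commute (g * w * g⁻¹) u := by
      intro u hu
      obtain ⟨y, ⟨y', -, rfl⟩, rfl⟩ := hmap.ge hu
      exact ((mem_cent.1 y'.2).symm.map (MulAut.conj g).toMonoidHom :)
    have hw11 : (g * w * g⁻¹) ^ 11 = 1 := by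
      rw [conj_pow, ← hwo, pow_orderOf_eq_one, mul_one, mul_inv_cancel]
    have hmem : g * w * g⁻¹ ∈ U :=
      hU.mem_of_pow _ (mem_cent.2 (hcomm r hU.mem)) (k := 1) (by rw [pow_one]; exact hw11)
    obtain ⟨k, hk⟩ := Eleven.exists_pow_of_mem (hU.center_le L hna hmem hcomm)
    have hk0 : (k : ZMod 11) ≠ 0 := fun h0 => by
      have h1 : r ^ k = 1 := orderOf_dvd_iff_pow_eq_one.1 (by
        rw [L.r_order]; exact (ZMod.natCast_eq_zero_iff k 11).1 h0)
      rw [h1] at hk
      rw [conj_eq_one_iff.1 hk, orderOf_one] at hwo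
      norm_num at hwo
    obtain ⟨n, hn⟩ := L.chi_surjective hU (Units.mk0 _ hk0)
    have h2 : IsConj r (r ^ k) :=
      isConj_iff.2 ⟨n, (Eleven.chiHom_spec L.r_order n k).2 (by rw [hn]; rfl)⟩
    exact hwr (h2.trans (isConj_iff.2 ⟨g⁻¹, by rw [← hk]; group⟩))
  -- at most one factor two
  have ha : a ≤ 1 := by
    by_contra ha
    have : Fact (Nat.Prime 2) := ⟨Nat.prime_two⟩
    have h4 : 2 ^ 2 ∣ Nat.card (centralizer ({w} : Set G)) := by
      rw [hcard, mul_assoc]; exact dvd_mul_of_dvd_left (pow_dvd_pow 2 (by omega)) _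
    obtain ⟨Q, hQ⟩ := Sylow.exists_subgroup_card_pow_prime 2 h4
    obtain ⟨⟨y, hyQ⟩, hyo⟩ := exists_prime_orderOf_dvd_card' (G := Q) 2 (by rw [hQ]; norm_num)
    rw [orderOf_mk, ← orderOf_coe] at hyo
    by_cases hz : IsConj z (y : G)
    · exact hwr (isConj_r_of_comm S hz hwo (mem_cent.1 y.2).symm)
    refine L.four y w hyo hz hwo (mem_cent.1 y.2) ?_
    have hle : Q.map (centralizer ({w} : Set G)).subtype ≤
        centralizer ({(y : G)} : Set G) ⊓ centralizer ({w} : Set G) := by
      rintro _ ⟨q, hq, rfl⟩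
      exact ⟨mem_cent.2 (congrArg (fun a : Q => ((a : centralizer ({w} : Set G)) : G))
        (IsPGroup.commutative_of_card_eq_prime_sq hQ ⟨q, hq⟩ ⟨y, hyQ⟩)), q.2⟩
    have := card_dvd_of_le hle
    rw [card_map_of_injective (Subgroup.subtype_injective _), hQ] at this
    exact this
  rw [hcard, hb0, hc']
  calc 2 ^ a * 3 ^ 0 * 11 ^ 2 ≤ 2 ^ 1 * 3 ^ 0 * 11 ^ 2 := by
        gcongr; norm_num
    _ = 242 := by norm_num

/-- Rows of orders 11 and 22. -/
theorem fams_eleven : Fam z 11 false [31944, 242] ∧ Fam z 22 true [264] ∧ Fam z 22 false [22] := by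
  have L := S.loc
  obtain ⟨t, w, ht, htz, hwo, hc, hwr, hcw⟩ := exists_second S
  obtain ⟨U, hU⟩ := L.exists_syl
  refine ⟨Fam.two r w hwr L.r_order hU.card_cent.le (fun h => absurd h (by decide)) hwo hcw
    (fun h => absurd h (by decide)), ?_, ?_⟩
  · have ho : orderOf (z * r) = 22 := orderOf_mul L.comm L.z_order L.r_order (by norm_num)
    have h11 : (z * r) ^ 11 = z := by
      rw [pow_mul_mod L.comm L.z_order L.r_order]; norm_num
    have h12 : (z * r) ^ 12 = r := by
      rw [pow_mul_mod L.comm L.z_order L.r_order]; norm_num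
    refine Fam.one (z * r) ho ?_ fun _ => ?_
    · rw [← L.card_zr]
      exact card_le_of_le (le_inf (cent_le_of_pow 11 h11) (cent_le_of_pow 12 h12))
    · rw [show 22 / 2 = 11 from rfl, h11]; exact iff_of_true (IsConj.refl z) rfl
  · have ho : orderOf (t * w) = 22 := orderOf_mul hc ht hwo (by norm_num)
    have h11 : (t * w) ^ 11 = t := by
      rw [pow_mul_mod hc ht hwo]; norm_num
    have h12 : (t * w) ^ 12 = w := by
      rw [pow_mul_mod hc ht hwo]; norm_num
    refine Fam.one (t * w) ho ?_ fun _ => ?_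
    · set D := centralizer ({t} : Set G) ⊓ centralizer ({w} : Set G) with hD
      refine le_trans (card_le_of_le (show _ ≤ D from le_inf (cent_le_of_pow 11 h11) (cent_le_of_pow 12 h12))) ?_
      have hdt : Nat.card D ∣ 1816657920 := S.cent_t t ht htz ▸ card_dvd_of_le inf_le_left
      obtain ⟨a, b, c, hcard, hb, hc2, hc3⟩ := L.card_cent hwo
      have hdw : Nat.card D ∣ Nat.card (centralizer ({w} : Set G)) := card_dvd_of_le inf_le_right
      have h242 : Nat.card D ≤ 242 := (Nat.le_of_dvd Nat.card_pos hdw).trans hcw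
      have h4 := L.four t w ht htz hwo hc
      rw [hcard] at hdw hcw
      have hc' : c = 2 := by
        by_contra hne
        have : 11 ^ 3 ≤ 2 ^ a * 3 ^ b * 11 ^ c := by
          rw [show c = 3 by omega]; exact Nat.le_mul_of_pos_left _ (by positivity)
        omega
      have hb' : b = 0 := by
        by_contra hne
        have : 3 * 11 ^ 2 ≤ 2 ^ a * 3 ^ b * 11 ^ c := by
          rw [show b = 1 by omega, hc']
          have : 1 ≤ 2 ^ a := Nat.one_le_two_pow
          nlinarith
        omega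
      have ha : a ≤ 1 := by
        by_contra hne
        have : 2 ^ 2 * 11 ^ 2 ≤ 2 ^ a * 3 ^ b * 11 ^ c := by
          rw [hb', hc', pow_zero, mul_one]
          exact Nat.mul_le_mul_right _ (Nat.pow_le_pow_right (by norm_num) (by omega))
        omega
      have hdw' : Nat.card D ∣ 242 := hdw.trans (by
        rw [hb', hc', pow_zero, mul_one, show (242 : ℕ) = 2 ^ 1 * 11 ^ 2 by norm_num]
        exact Nat.mul_dvd_mul_right (pow_dvd_pow 2 ha) _)
      have hg : Nat.card D ∣ 22 := by
        have := Nat.dvd_gcd hdw' hdt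
        norm_num at this ⊢
        exact this
      exact Nat.le_of_dvd (by norm_num) hg
    · rw [show 22 / 2 = 11 from rfl, h11]; exact iff_of_false htz Bool.false_ne_true

/-- Row of order 44. -/
theorem fam_fortyfour : Fam z 44 true [44] := by
  have L := S.loc
  set Q := oc z ⊓ centralizer ({r} : Set G) with hQ
  obtain ⟨q, hqQ, hq1, hqz⟩ : ∃ q ∈ Q, q ≠ 1 ∧ q ≠ z := by
    by_contra hcon
    push Not at hcon
    have hle : Q ≤ zpowers z := fun q hq => by
      by_cases h : q = 1
      · rw [h]; exact one_mem _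
      · rw [hcon q hq h]; exact mem_zpowers z
    have := card_le_of_le hle
    rw [S.oc_eight, Nat.card_zpowers, L.z_order] at this
    norm_num at this
  have hqzc : Commute q z := mem_cent.1 (oc_le z hqQ.1)
  have hq2 : q * q = z := by
    refine (S.oc_sq q hqQ.1).resolve_left fun h => hqz ?_
    refine L.unique q ⟨oc_le z hqQ.1, hqQ.2⟩ (orderOf_eq_prime (by rw [pow_two]; exact h) hq1)
  have hq4 : orderOf q = 4 := by
    have : Fact (Nat.Prime 2) := ⟨Nat.prime_two⟩
    refine orderOf_eq_prime_pow (p := 2) (n := 1) ?_ ?_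
    · rw [pow_one, pow_two, hq2]; exact fun h => by simpa [h] using L.z_order
    · show q ^ 4 = 1
      rw [show (4 : ℕ) = 2 * 2 from rfl, pow_mul, pow_two q, hq2, pow_two, L.zz]
  have hqr : Commute q r := mem_cent.1 hqQ.2
  set K := centralizer ({z} : Set G) ⊓ centralizer ({r} : Set G) with hK
  have hpK : p ∈ K := ⟨mem_cent.2 S.p_z, mem_cent.2 S.p_r⟩
  set q1 := p * q * p⁻¹ with hq1d
  have hqK : q ∈ K := ⟨oc_le z hqQ.1, hqQ.2⟩
  have hq1E : q1 ∈ oc z := oc_conj_mem (mem_cent.2 S.p_z) hqQ.1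
  have hq1K : q1 ∈ K := mul_mem (mul_mem hpK hqK) (inv_mem hpK)
  have hp3 : p * p * p = 1 := by
    rw [← pow_orderOf_eq_one p, S.p_order]; simp only [pow_succ, pow_zero, one_mul]
  have hnp : ¬ Commute q p := fun h => (S.oc_p q hqQ.1 h).elim hq1 hqz
  have hzp : p * z * p⁻¹ = z := by rw [S.p_z.eq, mul_inv_cancel_right]
  have hzz : z * z = 1 := L.zz
  -- the conjugates by `p` are different modulo `z`
  have hne0 : q1 ≠ q := fun h => hnp (by
    show q * p = p * q
    nth_rw 1 [← h]
    rw [hq1d]; group)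
  have hnez : q1 ≠ q * z := fun h => by
    have h2 : p * (p * q * p⁻¹) * p⁻¹ = q := by
      rw [← hq1d, h, show p * (q * z) * p⁻¹ = p * q * p⁻¹ * (p * z * p⁻¹) by group, ← hq1d, h, hzp,
        mul_assoc, hzz, mul_one]
    refine hne0 ?_
    calc q1 = p * (p * (p * q * p⁻¹) * p⁻¹) * p⁻¹ := by rw [h2, hq1d]
      _ = (p * p * p) * q * (p * p * p)⁻¹ := by group
      _ = q := by rw [hp3]; group
  have hq1q : q1 * q * q1⁻¹ = q * z := by
    refine (S.oc_comm q1 hq1E q hqQ.1).resolve_left fun h => ?_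
    have hc : Commute q1 q := mul_inv_eq_iff_eq_mul.1 h
    have h11 : q1 * q1 = z := by
      rw [hq1d, show p * q * p⁻¹ * (p * q * p⁻¹) = p * (q * q) * p⁻¹ by group, hq2, hzp]
    have hs : q1 * q * (q1 * q) = 1 := by
      rw [show q1 * q * (q1 * q) = q1 * (q * q1) * q by group, ← hc.eq,
        show q1 * (q1 * q) * q = (q1 * q1) * (q * q) by group, h11, hq2, hzz]
    have hqinv : q⁻¹ = q * z := inv_eq_of_mul_eq_one_right (by rw [← mul_assoc, hq2, hzz])
    by_cases h1 : q1 * q = 1
    · exact hnez ((eq_inv_of_mul_eq_one_left h1).trans hqinv)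
    · have := L.unique _ (mul_mem hq1K hqK) (orderOf_eq_prime (by rw [pow_two]; exact hs) h1)
      refine hne0 ?_
      calc q1 = (q1 * q) * q⁻¹ := by group
        _ = z * (q * z) := by rw [this, hqinv]
        _ = q := by rw [← mul_assoc, ← hqzc.eq, mul_assoc, hzz, mul_one]
  set g : Fin 6 → G := ![1, q1, p, p * q1, p * p, p * p * q1] with hg
  set q2 := p * q1 * p⁻¹ with hq2d
  have hqp : p * q2 * p⁻¹ = q := by
    rw [hq2d, hq1d, show p * (p * (p * q * p⁻¹) * p⁻¹) * p⁻¹ = (p * p * p) * q * (p * p * p)⁻¹ by group, hp3]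
    group
  have pconj : ∀ a : G, p * (a * z) * p⁻¹ = p * a * p⁻¹ * z := fun a => by
    rw [show p * (a * z) * p⁻¹ = p * a * p⁻¹ * (p * z * p⁻¹) by group, hzp]
  have e : ∀ i, g i * q * (g i)⁻¹ = ![q, q * z, q1, q1 * z, q2, q2 * z] i := by
    intro i
    fin_cases i
    · show (1 : G) * q * (1 : G)⁻¹ = q
      group
    · exact hq1q
    · rfl
    · show p * q1 * q * (p * q1)⁻¹ = q1 * z
      rw [show p * q1 * q * (p * q1)⁻¹ = p * (q1 * q * q1⁻¹) * p⁻¹ by group, hq1q, pconj]
    · show p * p * q * (p * p)⁻¹ = q2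
      rw [hq2d, hq1d]; group
    · show p * p * q1 * q * (p * p * q1)⁻¹ = q2 * z
      rw [show p * p * q1 * q * (p * p * q1)⁻¹ = p * (p * (q1 * q * q1⁻¹) * p⁻¹) * p⁻¹ by group, hq1q, pconj,
        ← hq1d, pconj, ← hq2d]
  have hbad : ∀ {a b : G}, p * a * p⁻¹ = p * b * p⁻¹ → a = b := fun h => mul_left_cancel (mul_right_cancel h)
  have n12 : q1 ≠ q2 ∧ q2 ≠ q1 * z ∧ q2 ≠ q ∧ q2 ≠ q * z := by
    refine ⟨fun h => hne0 (hbad (show p * q1 * p⁻¹ = p * q * p⁻¹ by rw [← hq2d, ← hq1d, ← h])),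
      fun h => hnez (hbad (show p * q1 * p⁻¹ = p * (q * z) * p⁻¹ by rw [pconj, ← hq2d, ← hq1d, h])),
      fun h => hne0 (show q1 = q from ?_), fun h => hnez (show q1 = q * z from ?_)⟩
    · rw [h] at hqp
      exact hq1d.trans hqp
    · rw [h, pconj, ← hq1d] at hqp
      calc q1 = q1 * z * z := by rw [mul_assoc, hzz, mul_one]
        _ = q * z := by rw [hqp]
  have hinj : ∀ i j, g i * q * (g i)⁻¹ = g j * q * (g j)⁻¹ → i = j := by
    obtain ⟨n1, n2, n3, n4⟩ := n12
    have zr : ∀ {a b : G}, a * z = b → a = b * z := fun {a b} h => by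
      rw [← h, mul_assoc, hzz, mul_one]
    have zne : ∀ a : G, a * z ≠ a := fun a h => by
      have := mul_left_cancel (h.trans (mul_one a).symm)
      simpa [this] using L.z_order
    intro i j h
    rw [e i, e j] at h
    fin_cases i <;> fin_cases j <;> first
      | rfl
      | (exfalso; simp only [Matrix.cons_val_zero, Matrix.cons_val_one, Matrix.cons_val,
          Fin.zero_eta, Fin.mk_one, Fin.reduceFinMk] at h
         first
          | exact zne _ h | exact zne _ h.symm
          | exact hne0 h | exact hne0 h.symm | exact hnez h | exact hnez h.symm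
          | exact n1 h | exact n1 h.symm | exact n2 h | exact n2 h.symm
          | exact n3 h | exact n3 h.symm | exact n4 h | exact n4 h.symm
          | exact hnez (zr h) | exact hnez (zr h.symm) | exact hne0 (mul_right_cancel h)
          | exact hne0 (mul_right_cancel h.symm) | exact n1 (mul_right_cancel h)
          | exact n1 (mul_right_cancel h.symm) | exact n3 (mul_right_cancel h)
          | exact n3 (mul_right_cancel h.symm) | exact n2 (zr h) | exact n2 (zr h.symm)
          | exact n4 (zr h) | exact n4 (zr h.symm))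
  have ho : orderOf (q * r) = 44 := orderOf_mul hqr hq4 L.r_order (by norm_num)
  have h33 : (q * r) ^ 33 = q := by
    rw [pow_mul_mod hqr hq4 L.r_order]; norm_num
  have h12 : (q * r) ^ 12 = r := by
    rw [pow_mul_mod hqr hq4 L.r_order]; norm_num
  have h22 : (q * r) ^ 22 = z := by
    rw [pow_mul_mod hqr hq4 L.r_order]; norm_num
    rw [pow_two, hq2]
  refine Fam.one (q * r) ho ?_ fun _ => ?_
  · have hC : centralizer ({q * r} : Set G) ≤ K :=
      le_inf (cent_le_of_pow 22 h22) (cent_le_of_pow 12 h12)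
    have hgK : ∀ i, g i ∈ K := by
      intro i
      fin_cases i
      exacts [one_mem K, hq1K, hpK, mul_mem hpK hq1K, mul_mem hpK hpK, mul_mem (mul_mem hpK hpK) hq1K]
    have := mul_card_le hC (fun c hc => mem_cent.1 (cent_le_of_pow 33 h33 hc)) g hgK hinj
    rw [L.card_zr] at this
    omega
  · rw [show 44 / 2 = 22 from rfl, h22]; exact iff_of_true (IsConj.refl z) rfl

/-- `r` is not inverted in the centraliser of `p`. -/
theorem not_inverted {g : G} (hg : Commute g p) (hgr : g * r * g⁻¹ = r⁻¹) (h66 : Nat.card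
    (centralizer ({p} : Set G) ⊓ centralizer ({r} : Set G) : Subgroup G) = 66) : False := by
  have hm : ((10 : ℕ) : ZMod 11) = ((-1 : (ZMod 11)ˣ) : ZMod 11) := by decide
  have hm2 : orderOf (-1 : (ZMod 11)ˣ) = 2 :=
    orderOf_eq_prime (hp := ⟨Nat.prime_two⟩) (by decide) (by decide)
  classical
  have L := S.loc
  have : Fact (Nat.Prime 11) := ⟨by norm_num⟩
  set C := centralizer ({p} : Set G) with hC
  have hrC : r ∈ C := mem_cent.2 S.p_r.symm
  have hgC : g ∈ C := mem_cent.2 hg
  set R : Subgroup C := zpowers (⟨r, hrC⟩ : C) with hR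
  let T : Sylow 11 C := Sylow.ofCard R (by
    rw [hR, Nat.card_zpowers, orderOf_mk, L.r_order, S.card_cp, show (2661120 : ℕ) = 11 * 241920 by norm_num,
      Nat.factorization_mul (by norm_num) (by norm_num), Finsupp.add_apply,
      Nat.Prime.factorization_self (by norm_num), Nat.factorization_eq_zero_of_not_dvd (by norm_num)]
    norm_num)
  set N := normalizer (R : Set C) with hN
  have hn : Nat.card (Sylow 11 C) = N.index := T.card_eq_index_normalizer
  have hmod := card_sylow_modEq_one 11 C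
  have hNsub : ∀ n : N, ((n : C) : G) ∈ normalizer (zpowers r : Set G) := by
    intro n
    refine mem_normalizer_fintype fun a ha => ?_
    obtain ⟨k, rfl⟩ := ha
    have h := (mem_normalizer_iff.1 n.2 ((⟨r, hrC⟩ : C) ^ k)).1 (zpow_mem (mem_zpowers _) k)
    obtain ⟨m, hm⟩ := h
    refine ⟨m, ?_⟩
    have := congrArg Subtype.val hm
    simpa using this
  let f : N →* (ZMod 11)ˣ := (Eleven.chiHom L.r_order).comp
    { toFun := fun n => ⟨((n : C) : G), hNsub n⟩, map_one' := rfl, map_mul' := fun _ _ => rfl }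
  have hker : Nat.card f.ker = 66 := by
    rw [← h66]
    refine Nat.card_congr
      { toFun := fun n => ⟨((n.1 : C) : G), (n.1 : C).2,
          (Eleven.chiHom_eq_one L.r_order ⟨_, hNsub n.1⟩).1 n.2⟩
        invFun := fun x => ⟨⟨⟨x.1, x.2.1⟩, ?_⟩, (Eleven.chiHom_eq_one L.r_order _).2 x.2.2⟩
        left_inv := fun _ => rfl
        right_inv := fun _ => rfl }
    refine mem_normalizer_fintype fun a ha => ?_
    obtain ⟨k, rfl⟩ := ha
    refine ⟨k, Subtype.ext ?_⟩
    show r ^ k = x.1 * r ^ k * (x.1)⁻¹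
    rw [((show Commute x.1 r from mem_cent.1 x.2.2).zpow_right k).eq, mul_inv_cancel_right]
  have hgN : (⟨g, hgC⟩ : C) ∈ N := by
    refine mem_normalizer_fintype fun a ha => ?_
    obtain ⟨k, rfl⟩ := ha
    refine ⟨-k, Subtype.ext ?_⟩
    show r ^ (-k) = g * r ^ k * g⁻¹
    rw [← conj_zpow, hgr, inv_zpow, zpow_neg]
  have hf : f ⟨_, hgN⟩ = -1 := by
    refine Units.ext ?_
    refine ((Eleven.chiHom_spec L.r_order ⟨g, hNsub ⟨_, hgN⟩⟩ 10).1 ?_).trans hm
    show g * r * g⁻¹ = r ^ 10
    rw [hgr]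
    refine inv_eq_of_mul_eq_one_right ?_
    rw [← pow_succ', show 10 + 1 = orderOf r from L.r_order.symm, pow_orderOf_eq_one]
  have he : 2 ∣ Nat.card f.range := by
    have := f.range.orderOf_dvd_natCard (x := -1) (MonoidHom.mem_range.2 ⟨_, hf⟩)
    rwa [hm2] at this
  have he10 : Nat.card f.range ∣ 10 := by
    have := f.range.card_subgroup_dvd_card
    rwa [Nat.card_eq_fintype_card (α := (ZMod 11)ˣ), show Fintype.card (ZMod 11)ˣ = 10 from rfl] at this
  have hmul := f.ker.card_mul_index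
  rw [index_ker, hker] at hmul
  have hN' := N.card_mul_index
  rw [S.card_cp, ← hmul, ← hn] at hN'
  rw [Nat.ModEq] at hmod
  have hle := Nat.le_of_dvd (by norm_num) he10
  have hpos : 0 < Nat.card f.range := Nat.card_pos
  generalize Nat.card f.range = e at *
  generalize Nat.card (Sylow 11 C) = m at *
  interval_cases e <;> omega

/-- Rows of orders 33 and 66. -/
theorem fams_thirtythree : Fam z 33 false [66, 66] ∧ Fam z 66 true [66, 66] := by
  have L := S.loc
  set Q := oc z ⊓ centralizer ({r} : Set G) with hQ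
  set K := centralizer ({z} : Set G) ⊓ centralizer ({r} : Set G) with hK
  set D := centralizer ({p} : Set G) ⊓ centralizer ({r} : Set G) with hD
  have hDK : D ≤ K := fun x hx => ⟨(S.cent_p.le hx.1).1, hx.2⟩
  have hQK : Q ≤ K := fun x hx => ⟨oc_le z hx.1, hx.2⟩
  -- four conjugates of `p`
  obtain ⟨g, hgQ, hg⟩ : ∃ g : Fin 4 → G, (∀ i, g i ∈ Q) ∧
      ∀ i j, (g j)⁻¹ * g i ∈ zpowers z → i = j := by
    classical
    let Zq : Subgroup Q := (zpowers z).subgroupOf Q
    have hzQ : z ∈ Q := by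
      have hsub : Q ⊓ centralizer ({z} : Set G) = Q := inf_eq_left.2 fun x hx => oc_le z hx.1
      obtain ⟨q, hq, hq1⟩ : ∃ q ∈ Q, q ≠ 1 := by
        by_contra h
        push Not at h
        have : Subsingleton Q := ⟨fun a b => Subtype.ext ((h a a.2).trans (h b b.2).symm)⟩
        have := Nat.card_of_subsingleton (1 : Q)
        rw [S.oc_eight] at this
        norm_num at this
      by_cases hqz : q = z
      · exact hqz ▸ hq
      · rcases S.oc_sq q hq.1 with h | h
        · exact absurd (L.unique q (hQK hq) (orderOf_eq_prime (by rw [pow_two]; exact h) hq1)) hqz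
        · exact h ▸ mul_mem hq hq
    have hcard : Nat.card (Q ⧸ Zq) = 4 := by
      have h := card_eq_card_quotient_mul_card_subgroup Zq
      rw [Nat.card_congr (subgroupOfEquivOfLe (zpowers_le.2 hzQ)).toEquiv, Nat.card_zpowers, L.z_order,
        S.oc_eight] at h
      omega
    obtain ⟨ψ⟩ : Nonempty (Fin 4 ≃ Q ⧸ Zq) :=
      ⟨(Finite.equivFinOfCardEq hcard).symm⟩
    refine ⟨fun i => ((ψ i).out : Q), fun i => ((ψ i).out : Q).2, fun i j h => ψ.injective ?_⟩
    rw [← QuotientGroup.out_eq' (ψ i), ← QuotientGroup.out_eq' (ψ j)]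
    exact (QuotientGroup.eq.2 (mem_subgroupOf.2 h)).symm
  have h66 : 4 * Nat.card D ≤ 264 := by
    rw [← L.card_zr]
    refine mul_card_le hDK (fun c hc => mem_cent.1 hc.1) g (fun i => hQK (hgQ i)) fun i j h => hg i j ?_
    have hc : Commute ((g j)⁻¹ * g i) p := by
      show (g j)⁻¹ * g i * p = p * ((g j)⁻¹ * g i)
      calc (g j)⁻¹ * g i * p = (g j)⁻¹ * (g i * p * (g i)⁻¹) * g i := by group
        _ = p * ((g j)⁻¹ * g i) := by rw [h]; group
    rcases S.oc_p _ (mul_mem (inv_mem (hgQ j).1) (hgQ i).1) hc with e | e <;> rw [e]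
    exacts [one_mem _, mem_zpowers z]
  have hcz : Commute (p * r) z := S.p_z.mul_left L.comm.symm
  have hcz' : Commute (p * r⁻¹) z := S.p_z.mul_left L.comm.symm.inv_left
  have hri : orderOf r⁻¹ = 11 := by rw [orderOf_inv, L.r_order]
  have hpri : Commute p r⁻¹ := S.p_r.inv_right
  have h11p : orderOf (p * r) = 33 := orderOf_mul S.p_r S.p_order L.r_order (by norm_num)
  have h11n : orderOf (p * r⁻¹) = 33 := orderOf_mul hpri S.p_order hri (by norm_num)
  have a22 : (p * r) ^ 22 = p := by rw [pow_mul_mod S.p_r S.p_order L.r_order]; norm_num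
  have a12 : (p * r) ^ 12 = r := by rw [pow_mul_mod S.p_r S.p_order L.r_order]; norm_num
  have b22 : (p * r⁻¹) ^ 22 = p := by rw [pow_mul_mod hpri S.p_order hri]; norm_num
  have b12 : (p * r⁻¹) ^ 12 = r⁻¹ := by rw [pow_mul_mod hpri S.p_order hri]; norm_num
  have ca : centralizer ({p * r} : Set G) ≤ D := le_inf (cent_le_of_pow 22 a22) (cent_le_of_pow 12 a12)
  have cb : centralizer ({p * r⁻¹} : Set G) ≤ D := le_inf (cent_le_of_pow 22 b22) fun x hx => by
    have := mem_cent.1 (cent_le_of_pow 12 b12 hx)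
    exact mem_cent.2 (by simpa using this.inv_right)
  have hD66 : Nat.card D = 66 := by
    refine le_antisymm (by omega) (Nat.le_of_dvd Nat.card_pos ?_)
    have hz : z ∈ D := ⟨mem_cent.2 S.p_z.symm, mem_cent.2 L.comm⟩
    have hpr : p * r ∈ D := ⟨mem_cent.2 ((Commute.refl p).mul_left S.p_r.symm),
      mem_cent.2 (S.p_r.mul_left (Commute.refl r))⟩
    have h := D.orderOf_dvd_natCard (mul_mem hpr hz)
    rwa [orderOf_mul hcz h11p L.z_order (by norm_num)] at h
  have hne : ¬ IsConj (p * r) (p * r⁻¹) := fun h => by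
    obtain ⟨g, hg⟩ := isConj_iff.1 h
    have e1 := congrArg (· ^ 22) hg
    have e2 := congrArg (· ^ 12) hg
    simp only [conj_pow, a22, b22, a12, b12] at e1 e2
    exact not_inverted S (mul_inv_eq_iff_eq_mul.1 e1) e2 hD66
  have hle : ∀ {x : G}, centralizer ({x} : Set G) ≤ D → Nat.card (centralizer ({x} : Set G)) ≤ 66 :=
    fun h => hD66 ▸ card_le_of_le h
  refine ⟨Fam.two _ _ hne h11p (hle ca) (fun h => absurd h (by decide)) h11n (hle cb)
    (fun h => absurd h (by decide)), ?_⟩
  have o1 : orderOf (p * r * z) = 66 := orderOf_mul hcz h11p L.z_order (by norm_num)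
  have o2 : orderOf (p * r⁻¹ * z) = 66 := orderOf_mul hcz' h11n L.z_order (by norm_num)
  have p1 : (p * r * z) ^ 34 = p * r := by rw [pow_mul_mod hcz h11p L.z_order]; norm_num
  have p2 : (p * r⁻¹ * z) ^ 34 = p * r⁻¹ := by rw [pow_mul_mod hcz' h11n L.z_order]; norm_num
  have k1 : (p * r * z) ^ 33 = z := by rw [pow_mul_mod hcz h11p L.z_order]; norm_num
  have k2 : (p * r⁻¹ * z) ^ 33 = z := by rw [pow_mul_mod hcz' h11n L.z_order]; norm_num
  refine Fam.two _ _ (fun h => hne ?_) o1 (hle ((cent_le_of_pow 34 p1).trans ca)) (fun _ => ?_) o2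
    (hle ((cent_le_of_pow 34 p2).trans cb)) (fun _ => ?_)
  · rw [← p1, ← p2]
    obtain ⟨g, hg⟩ := isConj_iff.1 h
    exact isConj_iff.2 ⟨g, by rw [← hg, conj_pow]⟩
  · rw [show 66 / 2 = 33 from rfl, k1]; exact iff_of_true (IsConj.refl z) rfl
  · rw [show 66 / 2 = 33 from rfl, k2]; exact iff_of_true (IsConj.refl z) rfl

end Cfsg.Agent.J4Classes.B
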