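import Cfsg.Agent.J4Classes.Defs
import Cfsg.Agent.J4Type.Eleven.Model
import Cfsg.Agent.J4Type.Order.Main
import Cfsg.Agent.J4Type.CoverTheorem
import Cfsg.Agent.S5564

/-!
# The setting for the classes outside the centraliser computations

`Setting` adds to the 11-local facts the element of order three of `P`, commuting with `r`, with its
centraliser, and the group of order eight `oc z ⊓ C(r)`.
-/

set_option autoImplicit false

open Subgroup

namespace Cfsg.Agent.J4Classes.B

open J4Type
open J4Type.Eleven (Local11)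
open LargeExtra (oc oc_le oc_conj_mem)

variable {G : Type*} [Group G]

theorem mem_cent {x a : G} : x ∈ centralizer ({a} : Set G) ↔ Commute x a :=
  mem_centralizer_singleton_iff

theorem cent_le_of_pow {x a : G} (k : ℕ) (h : x ^ k = a) :
    centralizer ({x} : Set G) ≤ centralizer ({a} : Set G) := fun _ hg =>
  mem_cent.2 (h ▸ (mem_cent.1 hg).pow_right k)

/-- Different conjugates bound the centraliser. -/
theorem mul_card_le [Finite G] {K C : Subgroup G} {x : G} {n : ℕ} (hC : C ≤ K) (hx : ∀ c ∈ C, Commute c x)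
    (g : Fin n → G) (hg : ∀ i, g i ∈ K) (hinj : ∀ i j, g i * x * (g i)⁻¹ = g j * x * (g j)⁻¹ → i = j) :
    n * Nat.card C ≤ Nat.card K := by
  have hkey : ∀ i, ∀ c ∈ C, g i * c * x * (g i * c)⁻¹ = g i * x * (g i)⁻¹ := fun i c hc => by
    rw [mul_assoc (g i) c x, (hx c hc).eq]; group
  have h : Function.Injective fun p : Fin n × C => (⟨g p.1 * p.2.1, mul_mem (hg p.1) (hC p.2.2)⟩ : K) := by
    rintro ⟨i, c⟩ ⟨j, d⟩ e
    have e' : g i * c.1 = g j * d.1 := congrArg Subtype.val e
    have hij : i = j := hinj i j (by rw [← hkey i c c.2, ← hkey j d d.2, e'])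
    subst hij
    exact Prod.ext rfl (Subtype.ext (mul_left_cancel e'))
  have := Nat.card_le_card_of_injective _ h
  rwa [Nat.card_prod, Nat.card_fin] at this

theorem orderOf_mul {a b : G} {m n : ℕ} (hc : Commute a b) (ha : orderOf a = m) (hb : orderOf b = n)
    (h : Nat.Coprime m n) : orderOf (a * b) = m * n := by
  rw [hc.orderOf_mul_eq_mul_orderOf_of_coprime (by rw [ha, hb]; exact h), ha, hb]

theorem pow_mul_mod {a b : G} {m n : ℕ} (hc : Commute a b) (ha : orderOf a = m) (hb : orderOf b = n) (k : ℕ) :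
    (a * b) ^ k = a ^ (k % m) * b ^ (k % n) := by
  rw [hc.mul_pow, ← ha, pow_mod_orderOf, ← hb, pow_mod_orderOf]

theorem Fam.one {z : G} {n : ℕ} {kz : Bool} {c : ℕ} (x : G) (ho : orderOf x = n)
    (hc : Nat.card (centralizer ({x} : Set G)) ≤ c)
    (hk : Even n → (IsConj z (x ^ (n / 2)) ↔ kz = true)) : Fam z n kz [c] :=
  ⟨![x], fun i => by fin_cases i; exact ⟨ho, hc, hk⟩,
    fun i j h => by fin_cases i; fin_cases j; exact absurd rfl h⟩

theorem Fam.two {z : G} {n : ℕ} {kz : Bool} {c d : ℕ} (x y : G) (hne : ¬ IsConj x y)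
    (hox : orderOf x = n) (hcx : Nat.card (centralizer ({x} : Set G)) ≤ c)
    (hkx : Even n → (IsConj z (x ^ (n / 2)) ↔ kz = true))
    (hoy : orderOf y = n) (hcy : Nat.card (centralizer ({y} : Set G)) ≤ d)
    (hky : Even n → (IsConj z (y ^ (n / 2)) ↔ kz = true)) : Fam z n kz [c, d] := by
  refine ⟨![x, y], fun i => ?_, fun i j h => ?_⟩
  · fin_cases i
    · exact ⟨hox, hcx, hkx⟩
    · exact ⟨hoy, hcy, hky⟩
  · fin_cases i <;> fin_cases j <;> first | exact absurd rfl h | exact hne | exact fun e => hne e.symm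

/-- The facts used. -/
structure Setting (G : Type*) [Group G] (z r p : G) (P : Subgroup G) : Prop where
  loc : Local11 G z r
  cent_t : ∀ y : G, orderOf y = 2 → ¬ IsConj z y → Nat.card (centralizer ({y} : Set G)) = 1816657920
  exists_t : ∃ t : G, orderOf t = 2 ∧ ¬ IsConj z t
  big : J4Type.Eleven.BigSylow G
  p_mem : p ∈ P
  p_order : orderOf p = 3
  cent_p : centralizer ({p} : Set G) = Base.CP z P
  card_cp : Nat.card (centralizer ({p} : Set G)) = 2661120
  p_r : Commute p r
  p_z : Commute p z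
  three : ∀ x : G, orderOf x = 3 → IsConj p x
  oc_eight : Nat.card (oc z ⊓ centralizer ({r} : Set G) : Subgroup G) = 8
  oc_p : ∀ e ∈ oc z, Commute e p → e = 1 ∨ e = z
  oc_sq : ∀ e ∈ oc z, e * e = 1 ∨ e * e = z
  oc_comm : ∀ a ∈ oc z, ∀ b ∈ oc z, a * b * a⁻¹ = b ∨ a * b * a⁻¹ = b * z

theorem exists_setting [Finite G] [IsSimpleGroup G] (hG : ¬ IsMulCommutative G) {z : G} {P : Subgroup G}
    (hJ : Cfsg.IsOfJankoFourTypeWith z P) : ∃ r p : G, Setting G z r p P := by
  have hcard := J4Type.Order.card_of_type hG ⟨z, P, hJ⟩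
  obtain ⟨r₀, L₀, hbig, hct, ht, -⟩ := J4Type.Eleven.exists_local hG z P hJ hcard
  obtain ⟨B, S⟩ := V11.exists_sys hG hJ
  obtain ⟨r, hr, hro, hrX⟩ := S.exists_x
  obtain ⟨h264, huniq⟩ := S.cent_data hr hro hrX
  obtain ⟨e, he, f, hf, hef⟩ := S.exists_commutator hr hro hrX
  have L : Local11 G z r :=
    { L₀ with
      r_order := hro
      comm := (mem_centralizer_singleton_iff.1 hr.1 : Commute r z).symm
      card_zr := h264
      unique := fun y hy hy2 => by
        obtain ⟨h1, h2⟩ := Invol.orderOf_eq_two_iff.1 hy2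
        exact (huniq y hy h2).resolve_left h1
      z_comm := by
        have h := commutator_mem_commutator he hf
        rwa [commutatorElement_def, hef] at h
      aut := by
        obtain ⟨g, hg, h⟩ := S.exists_double hr hro hrX
        exact ⟨g, mem_centralizer_singleton_iff.1 hg, h⟩ }
  obtain ⟨p, hpP, hp3, hP⟩ := Base.exists_gen hJ
  have hcp : centralizer ({p} : Set G) = Base.CP z P := by
    have hcP : centralizer (P : Set G) = centralizer ({p} : Set G) := by
      rw [hP]; exact LargePrime.centralizer_zpowers p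
    show _ = centralizer ({z} : Set G) ⊓ centralizer (P : Set G)
    rw [← hcP]
    exact (inf_eq_right.2 ((centralizer_le_normalizer _).trans (sixfold hG hJ).2.2.2.2)).symm
  refine ⟨r, p,
    { loc := L, cent_t := hct, exists_t := ht, big := hbig, p_mem := hpP, p_order := hp3, cent_p := hcp
      card_cp := by rw [hcp, Base.card_CP hJ]
      p_r := mem_centralizer_iff.1 hr.2 p hpP
      p_z := Base.mem_Hz.1 ((Base.P_le hJ) hpP)
      three := fun x hx => S5564.result hG ⟨z, P, hJ⟩ p x hp3 hx
      oc_eight := S.card_cent_oc hr hro hrX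
      oc_p := fun e he hep => Base.mem_Ez_fix hJ he (by
        rw [hP, LargePrime.centralizer_zpowers]; exact mem_cent.2 hep)
      oc_sq := fun e he => Base.sq_cases hJ he
      oc_comm := fun a ha b hb => ?_ }⟩
  have hzb : b * z = z * b := Base.mem_Hz.1 (Base.Ez_le z hb)
  rcases Base.comm_cases hJ ha hb with h | h
  · exact Or.inl (mul_inv_eq_one.1 h)
  · exact Or.inr ((mul_inv_eq_iff_eq_mul.1 h).trans hzb.symm)

end Cfsg.Agent.J4Classes.B
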