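import Cfsg.Agent.J4Classes.B.FourData
import Cfsg.Agent.J4Classes.B.Setting
import Cfsg.Agent.J4Type.Order.CountTClass
import Cfsg.Agent.J4Type.V11.Mathieu
import Cfsg.Agent.J4Type.V11.Setup
import Cfsg.Agent.Compute.CentInvolutions

/-!
# The elements of order four whose square is of the second kind
-/

set_option autoImplicit false
set_option maxRecDepth 100000

open Cfsg Subgroup

namespace Cfsg.Agent.J4Classes.B

open LargeExtra (oc oc_le)
open LargeFischer (W11 pt IsDuad bv)
open J4Type (mSub)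
open J4Type.V11
open Cfsg.Agent.Compute (rep24 bitB allBelow allBelow_eq_true syl2Reps inM24B idB)
open TenLocal J4Type.Order

theorem four_facts : inM24B rFour = true ∧
    idB (rep24.mul rFour rFour) = true ∧ comBits (imgPairs (matOf rFour)) = maskR ∧
    (∀ g ∈ gensC, inM24B g = true ∧ rep24.mul g rFour = rep24.mul rFour g) ∧
    Nat.xor 1 (mapp (matOf rFour) 1) = 547 ∧ bitB LargeFischer.tmask 547 = true ∧
    ((List.range 2048).filter fun v => Nat.beq (mapp (matOf rFour) v) v).length = 128 := by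
  have h := four_ok
  unfold fourB at h
  rw [Bool.and_eq_true, Bool.and_eq_true, Bool.and_eq_true, Bool.and_eq_true, Bool.and_eq_true,
    Bool.and_eq_true, List.all_eq_true] at h
  obtain ⟨⟨⟨⟨⟨⟨h1, h2⟩, h3⟩, h4⟩, h5⟩, h6⟩, h7⟩ := h
  refine ⟨h3, h2, Nat.eq_of_beq_eq_true h1, fun g hg => ?_, Nat.eq_of_beq_eq_true h5, h6,
    Nat.eq_of_beq_eq_true h7⟩
  have := h4 g hg
  rw [Bool.and_eq_true] at this
  exact ⟨this.1, Nat.eq_of_beq_eq_true this.2⟩

theorem one_fact : (inM24B rep24.one && Nat.beq (rep24.mul rep24.one rFour) (rep24.mul rFour rep24.one)) = true := by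
  decide +kernel

theorem gensC_fact (i : ℕ) : inM24B (gensC.getD i rep24.one) = true ∧
    rep24.mul (gensC.getD i rep24.one) rFour = rep24.mul rFour (gensC.getD i rep24.one) := by
  by_cases hi : i < gensC.length
  · rw [List.getD_eq_getElem _ _ hi]
    exact four_facts.2.2.2.1 _ (List.getElem_mem hi)
  · rw [List.getD_eq_default _ _ (not_lt.1 hi)]
    have h := one_fact
    rw [Bool.and_eq_true] at h
    exact ⟨h.1, Nat.eq_of_beq_eq_true h.2⟩

/-- The involution in the group of degree 24. -/
noncomputable def invR : ↥M24 := ⟨_, (Compute.mem_M24_of_check four_facts.1).2⟩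

theorem invR_sq : invR * invR = 1 := by
  obtain ⟨hok, -⟩ := Compute.mem_M24_of_check four_facts.1
  refine Subtype.ext ?_
  show rep24.den rFour * rep24.den rFour = 1
  rw [← rep24.den_mul _ _ hok hok]
  exact (Compute.idB_iff (rep24.ok_mul _ _ hok hok)).1 four_facts.2.1

theorem card_comm_invR : Nat.card {τ : ↥M24 // τ * invR = invR * τ} ≤ 21504 := by
  have hc : rep24.checkChain Compute.centInvAChain = true := by
    have h := Compute.invA_checks.2.1
    simp only [Compute.commB, Bool.and_eq_true] at h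
    exact h.1
  have hcard : Nat.card ↥(Compute.centM24 (rep24.den rFour)) = 21504 := by
    rw [show rFour = Compute.invRep 0 from rfl, Compute.centInvA_eq, rep24.card_chainGroup _ hc]
    exact Compute.invB_chain_facts.2.2
  rw [← hcard]
  refine Nat.card_le_card_of_injective (fun τ =>
    (⟨(τ.1 : Equiv.Perm GolayPt), Compute.mem_centM24.2 ⟨τ.1.2, congrArg Subtype.val τ.2⟩⟩ :
      ↥(Compute.centM24 (rep24.den rFour)))) ?_
  intro a b e
  exact Subtype.ext (Subtype.ext (congrArg (fun x : ↥(Compute.centM24 (rep24.den rFour)) => x.1) e))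

variable {G : Type*} [Group G] [Finite G] {z : G} {P : Subgroup G} {V : Type*} [AddCommGroup V]
  {π : ↥(oc z) →* Multiplicative V} {ρ : ↥(mSub z P) →* Equiv.Perm V} {q : V → ZMod 2} {B : List V}
  {S : Sys z P π ρ q B} (T : Sect S)

theorem exists_word : ∀ w : List ℕ, ∃ g : ↥M24, g * invR = invR * g ∧ T.act g (bv 1) = bv (wimg w 1) ∧
    wimg w 1 < 2048 := by
  intro w
  induction w with
  | nil => exact ⟨1, by rw [one_mul, mul_one], T.act_one _, by show (1 : ℕ) < 2048; norm_num⟩
  | cons i w ih =>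
    obtain ⟨g, hg, hw, hlt⟩ := ih
    obtain ⟨hM, hcomm⟩ := gensC_fact i
    obtain ⟨hok, hmem⟩ := Compute.mem_M24_of_check hM
    set a : ↥M24 := ⟨_, hmem⟩ with ha
    have haR : a * invR = invR * a := by
      obtain ⟨hokR, -⟩ := Compute.mem_M24_of_check four_facts.1
      refine Subtype.ext ?_
      show rep24.den _ * rep24.den rFour = rep24.den rFour * rep24.den _
      rw [← rep24.den_mul _ _ hok hokR, ← rep24.den_mul _ _ hokR hok, hcomm]
    refine ⟨a * g, by rw [mul_assoc, hg, ← mul_assoc, haR, mul_assoc], ?_, matOf_lt _ _⟩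
    rw [T.act_mul, hw, ha, T.act_code hok hmem hlt]
    rfl

theorem com_act {g : ↥M24} (hg : g * invR = invR * g) {v : W11} (h : IsCom T invR v) :
    IsCom T invR (T.act g v) := by
  obtain ⟨x, rfl⟩ := h
  exact ⟨T.act g x, by rw [map_add, ← T.act_mul, hg, T.act_mul]⟩

theorem com_add {v w : W11} (h : IsCom T invR v) (h' : IsCom T invR w) : IsCom T invR (v + w) := by
  obtain ⟨x, rfl⟩ := h
  obtain ⟨y, rfl⟩ := h'
  exact ⟨x + y, by rw [map_add]; abel⟩

theorem com_bv {v : ℕ} (hv : v < 2048) : IsCom T invR (bv v) ↔ bitB maskR v = true := by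
  rw [isCom_code T (Compute.mem_M24_of_check four_facts.1).1 (σ := invR) rfl hv, four_facts.2.2.1]

/-- The translates of the images by the commutators are disjoint. -/
theorem card_mul_le : 64 * Nat.card {τ : ↥M24 // τ * invR = invR * τ ∧ IsCom T invR (bv 1 + T.act τ (bv 1))} ≤
    21504 := by
  choose g hg hgc hlt using fun i : Fin 64 => exists_word T (wordsC.getD i [])
  have hsum : ∀ i (τ : ↥M24), IsCom T invR (bv 1 + T.act τ (bv 1)) →
      IsCom T invR (T.act (g i) (bv 1) + T.act (g i * τ) (bv 1)) := fun i τ h => by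
    rw [T.act_mul, ← map_add]; exact com_act T (hg i) h
  refine le_trans ?_ card_comm_invR
  rw [← Nat.card_fin 64, ← Nat.card_prod]
  refine Nat.card_le_card_of_injective (fun x : Fin 64 × {τ : ↥M24 // τ * invR = invR * τ ∧
      IsCom T invR (bv 1 + T.act τ (bv 1))} =>
    (⟨g x.1 * x.2.1, by rw [mul_assoc, x.2.2.1, ← mul_assoc, hg, mul_assoc]⟩ :
      {τ : ↥M24 // τ * invR = invR * τ})) ?_
  rintro ⟨i, τ, hτ⟩ ⟨j, τ', hτ'⟩ e
  have e' : g i * τ = g j * τ' := congrArg Subtype.val e
  have hij : i = j := by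
    by_contra hne
    have h := com_add T (hsum i τ hτ.2) (hsum j τ' hτ'.2)
    rw [show T.act (g i) (bv 1) + T.act (g i * τ) (bv 1) + (T.act (g j) (bv 1) + T.act (g j * τ') (bv 1)) =
      T.act (g i) (bv 1) + T.act (g j) (bv 1) + (T.act (g i * τ) (bv 1) + T.act (g j * τ') (bv 1)) by abel,
      e', LargeFischer.self11, add_zero, hgc, hgc, ← LargeFischer.bv_xor,
      com_bv T (LargeFischer.xor_lt11 (hlt i) (hlt j))] at h
    have hc := coset_ok
    rw [cosetB, allBelow_eq_true] at hc
    have h2 := hc i i.2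
    rw [allBelow_eq_true] at h2
    have h3 := h2 j j.2
    rw [Bool.or_eq_true, Bool.not_eq_true'] at h3
    rcases h3 with h4 | h4
    · exact hne (Fin.ext (Nat.eq_of_beq_eq_true h4))
    · rw [show Nat.xor (wimg (wordsC.getD (i : ℕ) []) 1) (wimg (wordsC.getD (j : ℕ) []) 1) =
        wimg (wordsC.getD (i : ℕ) []) 1 ^^^ wimg (wordsC.getD (j : ℕ) []) 1 from rfl, h] at h4
      exact Bool.noConfusion h4
  subst hij
  exact Prod.ext rfl (Subtype.ext (mul_left_cancel e'))

theorem card_fix : Nat.card {w : W11 // T.act invR w = w} ≤ 128 := by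
  classical
  set L := (List.range 2048).filter fun v => Nat.beq (mapp (matOf rFour) v) v with hL
  have hlen : L.length = 128 := four_facts.2.2.2.2.2.2
  have hmem : ∀ w : {w : W11 // T.act invR w = w}, ∃ v ∈ L, bv v = w.1 := by
    rintro ⟨w, hw⟩
    obtain ⟨v, hv, rfl⟩ := TenLocal.bv_surj w
    refine ⟨v, ?_, rfl⟩
    rw [hL, List.mem_filter, List.mem_range]
    refine ⟨hv, ?_⟩
    rw [show invR = ⟨_, (Compute.mem_M24_of_check four_facts.1).2⟩ from rfl,
      T.act_code (Compute.mem_M24_of_check four_facts.1).1 _ hv] at hw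
    rw [LargeFischer.bv_inj (matOf_lt _ _) hv hw]
    exact Nat.beq_refl _
  choose f hf hfe using hmem
  have h := Nat.card_le_card_of_injective (fun w => (⟨f w, List.mem_toFinset.2 (hf w)⟩ : ↥L.toFinset))
    fun a b e => Subtype.ext (by rw [← hfe a, ← hfe b, show f a = f b from congrArg Subtype.val e])
  rw [Nat.card_eq_finsetCard] at h
  exact h.trans ((List.toFinset_card_le L).trans hlen.le)

include T in
/-- The element of order four. -/
theorem fam_four_sect : Fam z 4 false [43008] := by
  obtain ⟨-, -, -, -, h547, ht, -⟩ := four_facts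
  have hokR := (Compute.mem_M24_of_check four_facts.1).1
  obtain ⟨x, hx⟩ : ∃ x, x = T.el (bv 1) invR := ⟨_, rfl⟩
  have hact1 : T.act invR (bv 1) = bv (mapp (matOf rFour) 1) :=
    T.act_code hokR _ (by norm_num)
  have hxx : x * x = T.el (bv 547) 1 := by
    rw [hx, T.el_mul, invR_sq, hact1, ← LargeFischer.bv_xor]
    rw [show 1 ^^^ mapp (matOf rFour) 1 = 547 from h547]
  have hel1 : T.el (bv 547) 1 = wg T.F (bv 547) := by rw [Sect.el, map_one]; simp
  have hd : IsDuad (bv 547) := (duad_iff (by norm_num)).2 (by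
    rw [J4Type.Orbits.bit_iff]; rwa [Compute.bitB_eq] at ht)
  obtain ⟨h1, hz⟩ := (duad_iff_sec T.F T.good _).1 hd
  rw [← hel1, ← hxx] at h1 hz
  have h4 : x ^ 4 = 1 := by
    rw [show x ^ 4 = x * x * (x * x) by simp only [pow_succ, pow_zero, one_mul, mul_assoc], hxx, T.el_mul,
      T.act_one, LargeFischer.self11, mul_one, T.el_one]
  have ho : orderOf x = 4 := by
    have : Fact (Nat.Prime 2) := ⟨Nat.prime_two⟩
    exact orderOf_eq_prime_pow (p := 2) (n := 1) (by rw [pow_one, pow_two]; exact h1) h4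
  refine Fam.one x ho ?_ fun _ => iff_of_false ?_ Bool.false_ne_true
  swap
  · rw [show (4 : ℕ) / 2 = 2 from rfl, pow_two]
    exact hz
  have hnrm : ∀ y : ↥(centralizer ({x} : Set G)), (y : G) ∈ T.F.nrm := fun y => by
    have hy : Commute (y : G) x := mem_centralizer_singleton_iff.1 y.2
    refine cent_duad T.F T.good hd (mem_centralizer_singleton_iff.2 ?_)
    rw [← hel1, ← hxx]
    exact (hy.mul_right hy).eq
  choose w hw using fun y : ↥(centralizer ({x} : Set G)) => T.exists_el (hnrm y)
  set τ : ↥(centralizer ({x} : Set G)) → ↥M24 := fun y => T.F.theta T.good ⟨(y : G), hnrm y⟩ with hτ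
  have hcomm : ∀ y, τ y * invR = invR * τ y ∧
      bv 1 + T.act (τ y) (bv 1) = w y + T.act invR (w y) := fun y => by
    have hy : (y : G) * x = x * (y : G) := mem_centralizer_singleton_iff.1 y.2
    replace hy : T.el (w y) (τ y) * T.el (bv 1) invR = T.el (bv 1) invR * T.el (w y) (τ y) := by
      rw [← hx, ← hw y]; exact hy
    rw [T.el_mul, T.el_mul] at hy
    obtain ⟨e1, e2⟩ := T.el_inj hy
    refine ⟨e2, ?_⟩
    calc bv 1 + T.act (τ y) (bv 1) = (w y + T.act (τ y) (bv 1)) + (w y + bv 1) := by
          rw [show w y + T.act (τ y) (bv 1) + (w y + bv 1) = (w y + w y) + (bv 1 + T.act (τ y) (bv 1)) by abel,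
            LargeFischer.self11, zero_add]
      _ = w y + T.act invR (w y) := by
          rw [e1, show bv 1 + T.act invR (w y) + (w y + bv 1) = (bv 1 + bv 1) + (w y + T.act invR (w y)) by abel,
            LargeFischer.self11, zero_add]
  set A := {τ : ↥M24 // τ * invR = invR * τ ∧ IsCom T invR (bv 1 + T.act τ (bv 1))}
  set K := {w : W11 // T.act invR w = w}
  let ε : A → W11 := fun a => a.2.2.choose
  have hε : ∀ a : A, bv 1 + T.act a.1 (bv 1) = ε a + T.act invR (ε a) := fun a => a.2.2.choose_spec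
  let toA : ↥(centralizer ({x} : Set G)) → A := fun y => ⟨τ y, (hcomm y).1, w y, (hcomm y).2⟩
  have hfix : ∀ y, T.act invR (w y + ε (toA y)) = w y + ε (toA y) := fun y => by
    have e : w y + T.act invR (w y) = ε (toA y) + T.act invR (ε (toA y)) := (hcomm y).2.symm.trans (hε (toA y))
    rw [map_add]
    calc T.act invR (w y) + T.act invR (ε (toA y))
        = (w y + T.act invR (w y)) + (w y + T.act invR (ε (toA y))) := by
          rw [show w y + T.act invR (w y) + (w y + T.act invR (ε (toA y))) =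
            (w y + w y) + (T.act invR (w y) + T.act invR (ε (toA y))) by abel, LargeFischer.self11, zero_add]
      _ = w y + ε (toA y) := by
          rw [e, show ε (toA y) + T.act invR (ε (toA y)) + (w y + T.act invR (ε (toA y))) =
            (T.act invR (ε (toA y)) + T.act invR (ε (toA y))) + (w y + ε (toA y)) by abel,
            LargeFischer.self11, zero_add]
  have hle : Nat.card ↥(centralizer ({x} : Set G)) ≤ Nat.card (A × K) := by
    refine Nat.card_le_card_of_injective (fun y => (toA y, (⟨_, hfix y⟩ : K))) fun a b e => ?_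
    obtain ⟨e1, e2⟩ := Prod.mk.injEq .. ▸ e
    have e2' : w a + ε (toA a) = w b + ε (toA b) := congrArg Subtype.val e2
    rw [e1] at e2'
    have hτe : τ a = τ b := congrArg Subtype.val e1
    refine Subtype.ext ?_
    rw [hw a, hw b, add_right_cancel e2']
    exact congrArg _ hτe
  rw [Nat.card_prod] at hle
  have hA : 64 * Nat.card A ≤ 21504 := card_mul_le T
  have hK := card_fix T
  calc Nat.card ↥(centralizer ({x} : Set G)) ≤ Nat.card A * Nat.card K := hle
    _ ≤ 336 * 128 := Nat.mul_le_mul (by omega) hK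
    _ = 43008 := by norm_num

/-- Row of order four of the second kind. -/
theorem fam_four [IsSimpleGroup G] (hG : ¬ IsMulCommutative G) (hJ : Cfsg.IsOfJankoFourTypeWith z P) :
    Fam z 4 false [43008] := by
  obtain ⟨B, S⟩ := exists_sys hG hJ
  obtain ⟨T⟩ := TenLocal.exists_sect S
  exact fam_four_sect T

end Cfsg.Agent.J4Classes.B
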