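import Cfsg.Agent.TenLocal.Code
import Cfsg.Agent.J4Type.Order.CountTLists
import Cfsg.Agent.Compute.Classes

/-!
# The certificate for the elements of order four of the second kind

Sixty-four words in generators of the centraliser of an involution of `M24` carry a vector to
sixty-four different cosets of the commutators of this involution.
-/

set_option autoImplicit false
set_option maxRecDepth 100000

namespace Cfsg.Agent.J4Classes.B

open Cfsg.Agent.Compute Cfsg.Agent.TenLocal Cfsg.Agent.J4Type.Order

/-- The involution. -/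
noncomputable abbrev rFour : ℕ := syl2Reps.getD 0 rep24.one

/-- Generators commuting with it. -/
def gensC : List ℕ :=
  [0x9d5ac518942c9211acf7401ee15a11, 0x536960b88c91ab03cc684bcb158ae0, 0x40874390ac7c6f0559a9ab8d29ac20,
    0x640743c8a989aabbcec8511ee68820, 0xace1461637910f650da84b9e658820]

/-- The commutators of the involution. -/
def maskR : ℕ := 0x20000008000000000000000000000000000000000000000000000000000000000000000000000000000000000000000000080000000020000000000000000001000000004000000000000000000000000000000000000000000000000000000000000000000000000000000000000000000040000001000000000000000000000000000000000002000000008000000000000000000000000000000000000000000000000000000000000000000000000000000000000000000080000002000000000000000000001000000400000000000000000000000000000000000000000000000000000000000000000000000000000000000000000004000000001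

/-- The words. -/
def wordsC : List (List ℕ) :=
  [[],
   [0],
   [1],
   [2],
   [3],
   [4],
   [0, 0],
   [1, 0],
   [2, 0],
   [4, 0],
   [0, 1],
   [4, 1],
   [0, 2],
   [2, 2],
   [0, 3],
   [0, 4],
   [1, 4],
   [0, 0, 0],
   [2, 0, 0],
   [3, 0, 0],
   [4, 0, 0],
   [0, 1, 0],
   [2, 1, 0],
   [3, 1, 0],
   [4, 1, 0],
   [0, 2, 0],
   [1, 2, 0],
   [2, 2, 0],
   [3, 2, 0],
   [4, 2, 0],
   [1, 4, 0],
   [2, 4, 0],
   [0, 0, 1],
   [2, 0, 1],
   [3, 0, 1],
   [0, 4, 1],
   [0, 0, 2],
   [2, 0, 2],
   [0, 2, 2],
   [1, 0, 3],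
   [2, 0, 3],
   [0, 0, 4],
   [3, 0, 4],
   [0, 0, 0, 0],
   [3, 0, 0, 0],
   [1, 2, 0, 0],
   [2, 2, 0, 0],
   [3, 2, 0, 0],
   [0, 3, 0, 0],
   [1, 0, 1, 0],
   [3, 0, 1, 0],
   [1, 2, 1, 0],
   [1, 4, 1, 0],
   [1, 0, 2, 0],
   [0, 1, 2, 0],
   [2, 1, 2, 0],
   [1, 2, 2, 0],
   [2, 2, 2, 0],
   [1, 3, 2, 0],
   [0, 0, 0, 1],
   [3, 2, 0, 1],
   [2, 3, 0, 1],
   [3, 3, 0, 1],
   [0, 1, 2, 0, 0]]

/-- The image of a vector under a word. -/
noncomputable def wimg (w : List ℕ) : ℕ → ℕ :=
  List.rec (motive := fun _ => ℕ → ℕ) (fun v => v) (fun i _ r v => mapp (matOf (gensC.getD i rep24.one)) (r v)) w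

/-- The checks. -/
noncomputable def fourB : Bool :=
  Nat.beq (comBits (imgPairs (matOf rFour))) maskR &&
    idB (rep24.mul rFour rFour) && inM24B rFour &&
    gensC.all (fun g => inM24B g && Nat.beq (rep24.mul g rFour) (rep24.mul rFour g)) &&
    Nat.beq (Nat.xor 1 (mapp (matOf rFour) 1)) 547 && bitB LargeFischer.tmask 547 &&
    Nat.beq ((List.range 2048).filter fun v => Nat.beq (mapp (matOf rFour) v) v).length 128

/-- The images lie in different cosets. -/
noncomputable def cosetB : Bool :=
  allBelow 64 fun i => allBelow 64 fun j =>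
    Nat.beq i j || !(bitB maskR (Nat.xor (wimg (wordsC.getD i []) 1) (wimg (wordsC.getD j []) 1)))

theorem four_ok : fourB = true := by decide +kernel

theorem coset_ok : cosetB = true := by decide +kernel

end Cfsg.Agent.J4Classes.B
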