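import Cfsg.Agent.J4Classes.B.Small
import Cfsg.Agent.J4Classes.B.Four
import Cfsg.Agent.J4Classes.B.Eleven

/-!
# The rows of the second kind and of the elements of order divisible by eleven
-/

set_option autoImplicit false

namespace Cfsg.Agent.J4Classes.B

variable {G : Type*} [Group G] [Finite G]

theorem fams [IsSimpleGroup G] (hG : ¬ IsMulCommutative G) {z : G} {P : Subgroup G}
    (hJ : Cfsg.IsOfJankoFourTypeWith z P) : Fams z rowsB := by
  obtain ⟨r, p, S⟩ := exists_setting hG hJ
  obtain ⟨h11, h22t, h22f⟩ := fams_eleven S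
  obtain ⟨h33, h66⟩ := fams_thirtythree S
  intro row hrow
  simp only [rowsB, List.mem_cons, List.not_mem_nil, or_false] at hrow
  rcases hrow with rfl | rfl | rfl | rfl | rfl | rfl | rfl | rfl | rfl | rfl
  exacts [fam_two S, fam_three S, fam_four hG hJ, fam_five hG hJ S, h11, h22t, h22f, h33,
    fam_fortyfour S, h66]

end Cfsg.Agent.J4Classes.B
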