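import Cfsg.Agent.J4Classes.B.Setting
import Cfsg.Agent.S5572

/-!
# The second class of involutions and the elements of order three and five
-/

set_option autoImplicit false

open Subgroup
open scoped Pointwise

namespace Cfsg.Agent.J4Classes.B

open J4Type

variable {G : Type*} [Group G] {z r p : G} {P : Subgroup G}

theorem fam_two (S : Setting G z r p P) : Fam z 2 false [1816657920] := by
  obtain ⟨t, ht, htz⟩ := S.exists_t
  exact Fam.one t ht (S.cent_t t ht htz).le fun _ =>
    iff_of_false (by simpa using htz) Bool.false_ne_true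

theorem fam_three (S : Setting G z r p P) : Fam z 3 false [2661120] :=
  Fam.one p S.p_order S.card_cp.le fun h => absurd h (by decide)

theorem card_sup_le [Finite G] {A B : Subgroup G} (h : A ≤ normalizer (B : Set G)) :
    Nat.card (A ⊔ B : Subgroup G) ≤ Nat.card A * Nat.card B := by
  have hset : ((A ⊔ B : Subgroup G) : Set G) = (A : Set G) * (B : Set G) :=
    coe_mul_of_left_le_normalizer_right A B h
  rw [← Nat.card_prod]
  refine Nat.card_le_card_of_surjective
    (fun x : A × B => (⟨x.1.1 * x.2.1, mul_mem_sup x.1.2 x.2.2⟩ : (A ⊔ B : Subgroup G))) ?_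
  rintro ⟨y, hy⟩
  have hy' : y ∈ (A : Set G) * (B : Set G) := hset ▸ hy
  obtain ⟨a, ha, b, hb, rfl⟩ := Set.mem_mul.1 hy'
  exact ⟨(⟨a, ha⟩, ⟨b, hb⟩), rfl⟩

theorem fam_five [Finite G] [IsSimpleGroup G] (hG : ¬ IsMulCommutative G) (hJ : Cfsg.IsOfJankoFourTypeWith z P)
    (S : Setting G z r p P) : Fam z 5 false [6720] := by
  have : Fact (Nat.Prime 5) := ⟨by norm_num⟩
  obtain ⟨⟨y, hy⟩, hyo⟩ := exists_prime_orderOf_dvd_card' (G := centralizer ({z} : Set G)) 5
    (by rw [S.loc.card_z]; norm_num)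
  rw [orderOf_mk] at hyo
  have hQ : Nat.card (zpowers y) = 5 := by rw [Nat.card_zpowers, hyo]
  obtain ⟨-, ⟨J, hdir, E, hE, -, hE8, ⟨e⟩, -⟩, -, -⟩ :=
    S5572.result hG z ⟨P, hJ⟩ (zpowers y) hQ (zpowers_le.2 hy)
  obtain ⟨-, hJle, hcomm, -, hsup⟩ := hdir
  have hJcard : Nat.card J = 1344 := by
    have h168 : Nat.card (Matrix.SpecialLinearGroup (Fin 3) (ZMod 2)) = 168 := by
      have h2 := Cfsg.Agent.Classical.card_sl_mul (F := ZMod 2) (ZMod.card 2) 3 (by norm_num)
      rw [show (∏ i : Fin 3, (2 ^ 3 - 2 ^ (i : ℕ))) = 168 from by decide, show 2 - 1 = 1 from rfl,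
        one_mul] at h2
      exact h2
    rw [card_eq_card_quotient_mul_card_subgroup E, Nat.card_congr e.toEquiv, h168, hE8]
  have hle : centralizer ({y} : Set G) = zpowers y ⊔ J :=
    (LargePrime.centralizer_zpowers y).symm.trans hsup.symm
  refine Fam.one y hyo ?_ fun h => absurd h (by decide)
  rw [hle]
  refine (card_sup_le ?_).trans (by rw [hQ, hJcard])
  refine le_trans ?_ (centralizer_le_normalizer _)
  intro a ha
  exact mem_centralizer_iff.2 fun b hb => (hcomm a ha b hb).symm

end Cfsg.Agent.J4Classes.B
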